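import Groth.Agent.Lib.ExtTop22.Line
import Groth.Agent.Lib.ExtPowX.Alg

/-!
# The top exterior power of a projective module over a quotient of the ring
-/

set_option autoImplicit false
set_option linter.style.haveILetI false

universe u

open TensorProduct GrothLib.NormLine16

namespace GrothLib.ExtTop22

variable {A B : Type u} [CommRing A] [CommRing B] [Algebra A B]

/-- Lines pull back to lines along surjections. -/
theorem locLine_baseChange (hs : Function.Surjective (algebraMap A B)) {X : Type u} [AddCommGroup X] [Module A X]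
    (hX : LocLine A X) : LocLine B (B ⊗[A] X) := by
  intro m hm
  obtain ⟨φ, p, C, hC, h0, hp⟩ := hX (m.comap (algebraMap A B)) (Ideal.comap_isMaximal_of_surjective _ hs)
  refine ⟨(TensorProduct.AlgebraTensorModule.rid A B B).toLinearMap ∘ₗ φ.baseChange B, (1 : B) ⊗ₜ p,
    algebraMap A B C, fun h => hC h, ?_, fun z => ?_⟩
  · show (TensorProduct.AlgebraTensorModule.rid A B B) (φ.baseChange B ((1 : B) ⊗ₜ p)) = _
    rw [LinearMap.baseChange_tmul, TensorProduct.AlgebraTensorModule.rid_tmul, h0, Algebra.smul_def, mul_one]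
  · induction z using TensorProduct.induction_on with
    | zero => rw [smul_zero, map_zero, zero_smul]
    | add a b ha hb => rw [smul_add, map_add, add_smul, ha, hb]
    | tmul b x =>
      show _ = (TensorProduct.AlgebraTensorModule.rid A B B) (φ.baseChange B (b ⊗ₜ x)) • (1 : B) ⊗ₜ[A] p
      rw [LinearMap.baseChange_tmul, TensorProduct.AlgebraTensorModule.rid_tmul, TensorProduct.smul_tmul',
        TensorProduct.smul_tmul', algebraMap_smul, smul_eq_mul, mul_one,
        TensorProduct.smul_tmul C b x, hp x, ← TensorProduct.smul_tmul]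

/-- For a surjection `A → B` the top exterior power commutes with base change. -/
theorem nonempty_extPow_baseChange (hs : Function.Surjective (algebraMap A B)) (P : Type u) [AddCommGroup P]
    [Module A P] [Module.Finite A P] [Module.Projective A P] (n : ℕ)
    (h : ∀ q : PrimeSpectrum A, Module.rankAtStalk P q = n) :
    Nonempty ((B ⊗[A] ↥(⋀[A]^n P)) ≃ₗ[B] ↥(⋀[B]^n (B ⊗[A] P))) := by
  let ψ : P →ₛₗ[algebraMap A B] B ⊗[A] P :=
    { toFun := fun x => (1 : B) ⊗ₜ x
      map_add' := fun x y => TensorProduct.tmul_add _ _ _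
      map_smul' := fun c x => by rw [TensorProduct.tmul_smul, algebraMap_smul] }
  let η : ↥(⋀[A]^n P) →ₗ[A] ↥(⋀[B]^n (B ⊗[A] P)) :=
    { toFun := fun z => GrothLib.ExtPowX.extMap n ψ z
      map_add' := fun x y => map_add _ x y
      map_smul' := fun c x => by rw [LinearMap.map_smulₛₗ, algebraMap_smul]; rfl }
  let Φ := η.liftBaseChange B
  have hsurj : Function.Surjective Φ := by
    rw [← LinearMap.range_eq_top, eq_top_iff, ← exteriorPower.ιMulti_span, Submodule.span_le]
    rintro _ ⟨w, rfl⟩
    choose v hv using fun i => TensorProduct.mk_surjective A P B hs (w i)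
    refine ⟨(1 : B) ⊗ₜ exteriorPower.ιMulti A n v, ?_⟩
    rw [LinearMap.liftBaseChange_tmul, one_smul]
    show GrothLib.ExtPowX.extMap n ψ _ = _
    rw [GrothLib.ExtPowX.extMap_ιMulti]
    exact congrArg _ (funext fun i => hv i)
  have h' : ∀ q : PrimeSpectrum B, Module.rankAtStalk (B ⊗[A] P) q = n := fun q => by
    rw [Module.rankAtStalk_baseChange, h]
  exact ⟨LinearEquiv.ofBijective Φ
    (bijective_of_surjective (locLine_baseChange hs (locLine_extPow P n h)) (locLine_extPow _ n h') Φ hsurj)⟩

end GrothLib.ExtTop22
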