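import Groth.Agent.Lib.NormLine16.Pre
import Groth.Agent.Lib.HypDual.Proj

/-!
# Modules that are lines near every maximal ideal
-/

set_option autoImplicit false
set_option linter.style.haveILetI false

universe u

open GrothLib.NormLine16

namespace GrothLib.ExtTop22

variable {B : Type u} [CommRing B] {X Y : Type u} [AddCommGroup X] [Module B X] [AddCommGroup Y] [Module B Y]

/-- Near every maximal ideal the module is free of rank one. -/
def LocLine (B : Type u) [CommRing B] (X : Type u) [AddCommGroup X] [Module B X] : Prop :=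
  ∀ m : Ideal B, m.IsMaximal → ∃ (φ : X →ₗ[B] B) (p : X) (C : B), C ∉ m ∧ IsPre φ p C

/-- The top exterior power of a finite projective module is a line. -/
theorem locLine_extPow (P : Type u) [AddCommGroup P] [Module B P] [Module.Finite B P] [Module.Projective B P] (n : ℕ)
    (h : ∀ q : PrimeSpectrum B, Module.rankAtStalk P q = n) : LocLine B ↥(⋀[B]^n P) := by
  intro m hm
  obtain ⟨s, hs, e, φ, h1, h2⟩ := GrothLib.HypDual.exists_localBasis ⟨m, hm.isPrime⟩ (h _)
  have hq : IsQuasi φ e s := ⟨fun r t => by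
    rw [h2 r, Pi.smul_apply, smul_eq_mul, Pi.single_apply]
    rcases eq_or_ne r t with rfl | hne
    · simp
    · simp [hne, hne.symm], fun w => (h1 w).symm⟩
  exact ⟨_, _, s ^ n, fun hc => hs (hm.isPrime.mem_of_pow_mem n hc), hq.isPre (Equiv.refl (Fin n))⟩

theorem eq_zero_of_locally (x : X) (h : ∀ m : Ideal B, m.IsMaximal → ∃ c ∉ m, c • x = 0) : x = 0 :=
  (Submodule.mem_bot B).1 (mem_of_forall_maximal x ⊥ fun m hm => by
    obtain ⟨c, hc, hcx⟩ := h m hm
    exact ⟨c, hc, (Submodule.mem_bot B).2 hcx⟩)

/-- A surjection between lines is bijective. -/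
theorem bijective_of_surjective (hX : LocLine B X) (hY : LocLine B Y) (g : X →ₗ[B] Y)
    (hg : Function.Surjective g) : Function.Bijective g := by
  refine ⟨(injective_iff_map_eq_zero g).2 fun z hz => eq_zero_of_locally (B := B) z fun m hm => ?_, hg⟩
  obtain ⟨φ, p, C, hC, -, hp⟩ := hX m hm
  obtain ⟨ψ, y, D, hD, hy0, -⟩ := hY m hm
  obtain ⟨w, rfl⟩ := hg y
  refine ⟨C * C * D, fun hmem => ?_, ?_⟩
  · rcases hm.isPrime.mem_or_mem hmem with h | h
    · rcases hm.isPrime.mem_or_mem h with h | h <;> exact hC h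
    · exact hD h
  · have h1 : φ z • g p = 0 := by rw [← map_smul, ← hp, map_smul, hz, smul_zero]
    have h2 : C • g w = φ w • g p := by rw [← map_smul, hp, map_smul]
    have h3 : φ z * (C * D) = 0 := by
      have h4 : φ z • (C • g w) = 0 := by rw [h2, smul_comm, h1, smul_zero]
      have h5 := congrArg ψ h4
      rwa [map_smul, map_smul, hy0, map_zero, smul_eq_mul, smul_eq_mul] at h5
    rw [mul_assoc C C D, mul_comm C (C * D), mul_smul, hp, smul_smul, mul_comm, h3, zero_smul]

/-- The endomorphisms of a line are the scalars. -/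
theorem bijective_lsmul (hX : LocLine B X) : Function.Bijective (LinearMap.lsmul B X) := by
  refine ⟨(injective_iff_map_eq_zero _).2 fun b hb => ?_, fun f => ?_⟩
  · refine eq_zero_of_locally (B := B) b fun m hm => ?_
    obtain ⟨φ, p, C, hC, h0, -⟩ := hX m hm
    refine ⟨C, hC, ?_⟩
    have := congrArg φ (LinearMap.congr_fun hb p)
    rwa [LinearMap.lsmul_apply, map_smul, h0, LinearMap.zero_apply, map_zero, smul_eq_mul, mul_comm] at this
  · show f ∈ LinearMap.range (LinearMap.lsmul B X)
    refine mem_of_forall_maximal f _ fun m hm => ?_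
    obtain ⟨φ, p, C, hC, h0, hp⟩ := hX m hm
    refine ⟨C * C, fun h => (hm.isPrime.mem_or_mem h).elim hC hC, C * φ (f p), LinearMap.ext fun z => ?_⟩
    show (C * φ (f p)) • z = (C * C) • f z
    rw [mul_smul, mul_smul, ← map_smul f C z, hp z, map_smul, smul_comm C (φ z), hp (f p), smul_comm C (φ (f p)),
      hp z, smul_smul, smul_smul, mul_comm]

/-- Endomorphisms of a line form the ring. -/
noncomputable def endEquiv (hX : LocLine B X) : (X →ₗ[B] X) ≃ₗ[B] B :=
  (LinearEquiv.ofBijective (LinearMap.lsmul B X) (bijective_lsmul hX)).symm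

end GrothLib.ExtTop22
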