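import Groth.Agent.Lib.ExtTop22.Shift
import Groth.Agent.Lib.ExtTop22.BaseChange
import Groth.Agent.Lib.SplitDet1.Basic
import Groth.Agent.Lib.SplitDet1.Conormal
import Groth.Agent.Lib.TensorGen.Det
import Groth.Agent.Lib.DispRigid.ExtPow

/-!
# Ext of the top forms of a smooth complete intersection into those of the ambient algebra
-/

set_option autoImplicit false
set_option linter.style.haveILetI false

universe u

open CategoryTheory CategoryTheory.Abelian TensorProduct GrothLib.ExtPowX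

namespace GrothLib.ExtTop22

/-- The adjunction isomorphism on top forms for a smooth quotient by a regular sequence. -/
theorem nonempty_extPow_conormal (k A : Type u) [CommRing k] [CommRing A] [Algebra k A] [Algebra.Smooth k A]
    {c n : ℕ} (hcn : c ≤ n) (hn : ∀ q : PrimeSpectrum A, Module.rankAtStalk (Ω[A⁄k]) q = n) (F : Fin c → A)
    (hreg : RingTheory.Sequence.IsWeaklyRegular A (List.ofFn F))
    [Algebra.Smooth k (A ⧸ Ideal.span (Set.range F))] :
    Nonempty (((A ⧸ Ideal.span (Set.range F)) ⊗[A] ↥(⋀[A]^n (Ω[A⁄k]))) ≃ₗ[A ⧸ Ideal.span (Set.range F)]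
      ↥(⋀[A ⧸ Ideal.span (Set.range F)]^(n - c) (Ω[(A ⧸ Ideal.span (Set.range F))⁄k]))) ∧
    LocLine (A ⧸ Ideal.span (Set.range F))
      ↥(⋀[A ⧸ Ideal.span (Set.range F)]^(n - c) (Ω[(A ⧸ Ideal.span (Set.range F))⁄k])) := by
  classical
  let I := Ideal.span (Set.range F)
  let B := A ⧸ I
  have hI : RingHom.ker (algebraMap A B) = I := Ideal.mk_ker
  have hsB : Function.Surjective (algebraMap A B) := Ideal.Quotient.mk_surjective
  obtain ⟨hli, hsp⟩ := GrothLib.SplitDet1.cotangent_basis F hreg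
  let bI : Module.Basis (Fin c) B I.Cotangent := Module.Basis.mk hli hsp.ge
  let f : (Fin c → B) →ₗ[B] B ⊗[A] Ω[A⁄k] :=
    Fintype.linearCombination B fun i => (1 : B) ⊗ₜ KaehlerDifferential.D k A (F i)
  let q := KaehlerDifferential.mapBaseChange k A B
  obtain ⟨l₀, hl₀⟩ := (Algebra.FormallySmooth.iff_split_injection (R := k) (P := A) (A := B) hsB).1 inferInstance
  let φ : (RingHom.ker (algebraMap A B)).Cotangent →ₗ[A] I.Cotangent :=
    Ideal.mapCotangent _ _ (AlgHom.id A A) (fun x hx => by rw [← hI]; exact hx)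
  let r₀ : B ⊗[A] Ω[A⁄k] →ₗ[A] (Fin c → B) :=
    (bI.equivFun.toLinearMap.restrictScalars A) ∘ₗ φ ∘ₗ l₀
  let rt : B ⊗[A] Ω[A⁄k] →ₗ[B] (Fin c → B) := LinearMap.extendScalarsOfSurjective hsB r₀
  have hF : ∀ i, algebraMap A B (F i) = 0 := fun i =>
    Ideal.Quotient.eq_zero_iff_mem.2 (Ideal.subset_span (Set.mem_range_self i))
  have hr : ∀ x, rt (f x) = x := by
    suffices rt ∘ₗ f = LinearMap.id from fun x => LinearMap.congr_fun this x
    refine (Pi.basisFun B (Fin c)).ext fun i => ?_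
    rw [LinearMap.comp_apply, LinearMap.id_apply, Pi.basisFun_apply, Fintype.linearCombination_apply_single, one_smul]
    show bI.equivFun (φ (l₀ ((1 : B) ⊗ₜ KaehlerDifferential.D k A (F i)))) = _
    have h := LinearMap.congr_fun hl₀ ((RingHom.ker (algebraMap A B)).toCotangent ⟨F i, hF i⟩)
    rw [LinearMap.comp_apply, LinearMap.id_apply, KaehlerDifferential.kerCotangentToTensor_toCotangent] at h
    rw [h, show φ ((RingHom.ker (algebraMap A B)).toCotangent ⟨F i, hF i⟩) = bI i by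
      rw [Module.Basis.mk_apply]; rfl]
    funext j
    simp [Module.Basis.equivFun_apply, Finsupp.single_apply, Pi.single_apply, eq_comm]
  have hqf : q ∘ₗ f = 0 := by
    refine (Pi.basisFun B (Fin c)).ext fun i => ?_
    rw [LinearMap.comp_apply, Pi.basisFun_apply, Fintype.linearCombination_apply_single, one_smul,
      KaehlerDifferential.mapBaseChange_tmul, KaehlerDifferential.map_D, hF, map_zero, smul_zero, LinearMap.zero_apply]
  obtain ⟨s, hs⟩ := Module.projective_lifting_property q LinearMap.id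
    (KaehlerDifferential.mapBaseChange_surjective k A B hsB)
  have hqs : ∀ x, q (s x) = x := fun x => LinearMap.congr_fun hs x
  have hex : ∀ m, m - s (q m) ∈ LinearMap.range f := by
    intro m
    have h0 : q (m - s (q m)) = 0 := by rw [map_sub, hqs, sub_self]
    obtain ⟨z, hz⟩ := ((KaehlerDifferential.exact_kerCotangentToTensor_mapBaseChange k A B hsB) _).1 h0
    obtain ⟨⟨y, hy⟩, rfl⟩ := Ideal.toCotangent_surjective _ z
    rw [KaehlerDifferential.kerCotangentToTensor_toCotangent] at hz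
    rw [← hz]
    rw [hI] at hy
    obtain ⟨w, hw⟩ := (Ideal.mem_span_range_iff_exists_fun).1 hy
    refine ⟨fun i => algebraMap A B (w i), ?_⟩
    show Fintype.linearCombination B _ _ = (1 : B) ⊗ₜ KaehlerDifferential.D k A y
    rw [Fintype.linearCombination_apply, ← hw, map_sum, TensorProduct.tmul_sum]
    refine Finset.sum_congr rfl fun i _ => ?_
    rw [Derivation.leibniz, TensorProduct.tmul_add, TensorProduct.tmul_smul, TensorProduct.tmul_smul,
      ← algebraMap_smul B (w i) ((1 : B) ⊗ₜ KaehlerDifferential.D k A (F i)),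
      ← algebraMap_smul B (F i) ((1 : B) ⊗ₜ KaehlerDifferential.D k A (w i)), hF, zero_smul, add_zero]
  -- the ranks
  have hM : ∀ p : PrimeSpectrum B, Module.rankAtStalk (B ⊗[A] Ω[A⁄k]) p = n := fun p => by
    rw [Module.rankAtStalk_baseChange, hn]
  let σ : ((Fin c → B) × Ω[B⁄k]) →ₗ[B] B ⊗[A] Ω[A⁄k] := f.coprod s
  have hσ : Function.Bijective σ := by
    refine ⟨(injective_iff_map_eq_zero σ).2 ?_, fun m => ?_⟩
    · rintro ⟨x, y⟩ h
      rw [show σ (x, y) = f x + s y from LinearMap.coprod_apply ..] at h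
      have hy : y = 0 := by
        have := congrArg q h
        rwa [map_add, show q (f x) = 0 from LinearMap.congr_fun hqf x, zero_add, hqs, map_zero] at this
      rw [hy, map_zero, add_zero] at h
      have hx : x = 0 := by rw [← hr x, h, map_zero]
      rw [hx, hy]; rfl
    · obtain ⟨x, hx⟩ := hex m
      refine ⟨(x, q m), ?_⟩
      rw [LinearMap.coprod_apply, hx, sub_add_cancel]
  have hQ : ∀ p : PrimeSpectrum B, Module.rankAtStalk (Ω[B⁄k]) p = n - c := fun p => by
    haveI : Nontrivial B := (PrimeSpectrum.nonempty_iff_nontrivial).1 ⟨p⟩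
    have h := congrFun (Module.rankAtStalk_eq_of_equiv (LinearEquiv.ofBijective σ hσ)) p
    rw [hM, Module.rankAtStalk_prod, Pi.add_apply, Module.rankAtStalk_eq_finrank_of_free,
      Pi.natCast_apply, Module.finrank_fintype_fun_eq_card, Fintype.card_fin] at h
    simp only [Nat.cast_id] at h
    omega
  have hY := locLine_extPow (Ω[B⁄k]) (n - c) hQ
  refine ⟨?_, hY⟩
  let eN : (⋀[B]^c (Fin c → B)) ≃ₗ[B] B :=
    (LinearEquiv.ofBijective (LinearMap.toSpanSingleton B _ (exteriorPower.ιMulti B c (Pi.basisFun B (Fin c))))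
      (GrothLib.TensorGen.bijective_smul_ιMulti _)).symm
  let θ : (⋀[B]^c (Fin c → B)) ⊗[B] (⋀[B]^(n - c) (Ω[B⁄k])) ≃ₗ[B] ⋀[B]^(n - c) (Ω[B⁄k]) :=
    (TensorProduct.congr eN (LinearEquiv.refl B _)).trans (TensorProduct.lid B _)
  let g : (⋀[B]^n (B ⊗[A] Ω[A⁄k])) →ₗ[B] ⋀[B]^(n - c) (Ω[B⁄k]) := θ.toLinearMap ∘ₗ Ses.retr q rt c (n - c) n
  have hsurj : Function.Surjective g := fun y => by
    obtain ⟨w, hw⟩ : ∃ w, Ses.rho q c (n - c) w = θ.symm y :=
      TensorProduct.map_surjective Function.surjective_id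
        (exteriorPower.map_surjective (fun x => ⟨s x, hqs x⟩)) (θ.symm y)
    refine ⟨Ses.mu f (show c + (n - c) = n by omega) w, ?_⟩
    simp only [g, LinearMap.comp_apply, LinearEquiv.coe_coe, Ses.retr_mu hr hqf, hw, LinearEquiv.apply_symm_apply]
  obtain ⟨e⟩ := nonempty_extPow_baseChange (B := B) hsB (Ω[A⁄k]) n hn
  exact ⟨e.trans (LinearEquiv.ofBijective g (bijective_of_surjective (locLine_extPow _ n hM) hY g hsurj))⟩

/-- The main computation. -/
theorem main (k A : Type u) [CommRing k] [CommRing A] [Algebra k A] [Algebra.Smooth k A] {n : ℕ}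
    (hn : ∀ q : PrimeSpectrum A, Module.rankAtStalk (Ω[A⁄k]) q = n) {c : ℕ} (F : Fin c → A)
    (hreg : RingTheory.Sequence.IsWeaklyRegular A (List.ofFn F))
    [Algebra.Smooth k (A ⧸ Ideal.span (Set.range F))] (hcn : c ≤ n) :
    Nonempty (Abelian.Ext
      (ModuleCat.of A ↥((⋀[A ⧸ Ideal.span (Set.range F)]^(n - c)
        (Ω[(A ⧸ Ideal.span (Set.range F))⁄k])).restrictScalars A))
      (ModuleCat.of A ↥(⋀[A]^n (Ω[A⁄k]))) c ≃ₗ[A] (A ⧸ Ideal.span (Set.range F))) := by
  let J := Ideal.span (Set.range F)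
  let Y := ↥(⋀[A ⧸ J]^(n - c) (Ω[(A ⧸ J)⁄k]))
  let N := ↥(⋀[A]^n (Ω[A⁄k]))
  obtain ⟨⟨eY⟩, hY⟩ := nonempty_extPow_conormal k A hcn hn F hreg
  haveI : Module.Projective A N := GrothLib.DispRigid.projective_exteriorPower n
  have hN : RingTheory.Sequence.IsWeaklyRegular N (List.ofFn F) :=
    GrothLib.FundIso27.isWeaklyRegular_of_flat N _ hreg
  let eQ : ↥((⋀[A ⧸ J]^(n - c) (Ω[(A ⧸ J)⁄k])).restrictScalars A) ≃ₗ[A] Y :=
    (Submodule.restrictScalarsEquiv A (A ⧸ J) (ExteriorAlgebra (A ⧸ J) (Ω[(A ⧸ J)⁄k]))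
      (⋀[A ⧸ J]^(n - c) (Ω[(A ⧸ J)⁄k]))).restrictScalars A
  have hmem : ∀ r ∈ List.ofFn F, r ∈ Module.annihilator A
      (ModuleCat.of A ↥((⋀[A ⧸ J]^(n - c) (Ω[(A ⧸ J)⁄k])).restrictScalars A)) := fun r hr => by
    refine Module.mem_annihilator.2 fun m => eQ.injective ?_
    obtain ⟨i, rfl⟩ := List.mem_ofFn.1 hr
    rw [map_smul, map_zero, ← algebraMap_smul (A ⧸ J),
      show algebraMap A (A ⧸ J) (F i) = 0 from
        Ideal.Quotient.eq_zero_iff_mem.2 (Ideal.subset_span (Set.mem_range_self i)), zero_smul]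
  obtain ⟨e⟩ := nonempty_ext_equiv_hom _ (List.ofFn F) (ModuleCat.of A N) hmem hN
  rw [List.length_ofFn] at e
  have hJ : Ideal.ofList (List.ofFn F) = J := congrArg Ideal.span (Set.ext fun x => List.mem_ofFn)
  let eT : (N ⧸ (Ideal.ofList (List.ofFn F) • ⊤ : Submodule A N)) ≃ₗ[A] Y :=
    (Submodule.quotEquivOfEq _ _ (by rw [hJ])).trans
      ((TensorProduct.quotTensorEquivQuotSMul N J).symm.trans (eY.restrictScalars A))
  exact ⟨e.trans ((LinearEquiv.arrowCongr eQ eT).trans
    ((LinearMap.extendScalarsOfSurjectiveEquiv (R := A) (S := A ⧸ J) Ideal.Quotient.mk_surjective).trans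
      ((endEquiv hY).restrictScalars A)))⟩

end GrothLib.ExtTop22
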