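import Groth.Agent.Lib.FundIso27.Alg

/-!
# The first non-vanishing Ext group along a weakly regular sequence
-/

set_option autoImplicit false

universe u

open CategoryTheory CategoryTheory.Abelian RingTheory.Sequence
open scoped Pointwise

namespace GrothLib.ExtTop22

variable {A : Type u} [CommRing A]

/-- Along a weakly regular sequence on `N` killing `Q`, the first possibly non-zero `Ext` is the
module of maps into the quotient. -/
theorem nonempty_ext_equiv_hom (Q : ModuleCat.{u} A) : ∀ (rs : List A) (N : ModuleCat.{u} A),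
    (∀ r ∈ rs, r ∈ Module.annihilator A Q) → IsWeaklyRegular N rs →
      Nonempty (Ext Q N rs.length ≃ₗ[A] (Q →ₗ[A] N ⧸ (Ideal.ofList rs • ⊤ : Submodule A N)))
  | [], N, _, _ => by
    let e : (N ⧸ (Ideal.ofList ([] : List A) • ⊤ : Submodule A N)) ≃ₗ[A] N :=
      Submodule.quotEquivOfEqBot _ (by simp)
    exact ⟨Ext.linearEquiv₀.trans (ModuleCat.homLinearEquiv.trans (LinearEquiv.congrRight e.symm))⟩
  | a :: rs', N, hmem, hreg => by
    have hmem0 := hmem
    have hreg0 := hreg
    simp only [isWeaklyRegular_cons_iff] at hreg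
    simp only [List.mem_cons, forall_eq_or_imp] at hmem
    obtain ⟨e⟩ := nonempty_ext_equiv_hom Q rs' (ModuleCat.of A (QuotSMulTop a N)) hmem.2 hreg.2
    let S := ModuleCat.smulShortComplex N a
    have hS : S.ShortExact := hreg.1.smulShortComplex_shortExact
    let δ : Ext Q S.X₃ rs'.length →ₗ[A] Ext Q S.X₁ (rs'.length + 1) :=
      { toFun := fun x => x.comp hS.extClass rfl
        map_add' := fun x y => Ext.add_comp x y hS.extClass rfl
        map_smul' := fun r x => Ext.smul_comp x hS.extClass rfl r }
    have hinj : Function.Injective δ := by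
      refine (injective_iff_map_eq_zero δ).2 fun x hx => ?_
      obtain ⟨y, rfl⟩ := Ext.covariant_sequence_exact₃ Q hS x rfl hx
      haveI : Subsingleton (Ext Q S.X₂ rs'.length) :=
        GrothLib.FundIso27.subsingleton_ext_of_weaklyRegular Q (a :: rs') N hmem0 hreg0 rs'.length (by simp)
      rw [Subsingleton.elim y (0 : Ext Q S.X₂ rs'.length), Ext.zero_comp]
    have hsurj : Function.Surjective δ := fun y => by
      refine Ext.covariant_sequence_exact₁ Q hS y ?_ rfl
      have h0 := Ext.postcomp_smul_id_eq_zero_of_mem_annihilator (M := N) hmem.1 (rs'.length + 1)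
      rw [show S.f = a • 𝟙 N from ModuleCat.smulShortComplex_f_eq_smul_id N a]
      exact ConcreteCategory.congr_hom h0 y
    let e₁ : Ext Q (ModuleCat.of A (QuotSMulTop a N)) rs'.length ≃ₗ[A] Ext Q N (rs'.length + 1) :=
      LinearEquiv.ofBijective δ ⟨hinj, hsurj⟩
    exact ⟨e₁.symm.trans (e.trans
      (LinearEquiv.congrRight (Submodule.quotOfListConsSMulTopEquivQuotSMulTopInner (M := N) a rs').symm))⟩

end GrothLib.ExtTop22
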